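/-!
Commutator witnesses over the field with nine elements, coded by `a + 3 b` for `a + b g` with `g ^ 2 = g + 1`:
for a companion matrix the matrices `H` and `b` with `A * H * b = b * H`, row by row.
-/

set_option autoImplicit false

namespace CfsgLib.OreSU.Nine

/-- Witnesses for the cubic: entry `9 * c₁ + c₂`. -/
def tab3 : List (List Nat × List Nat) :=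
  [([6, 5, 0, 0, 5, 2, 6, 0, 2], [7, 1, 0, 8, 0, 0, 0, 0, 1]),
   ([0, 0, 3, 5, 4, 7, 0, 2, 6], [2, 6, 5, 1, 0, 0, 0, 0, 1]),
   ([4, 1, 4, 5, 3, 8, 1, 0, 3], [1, 6, 7, 4, 3, 8, 0, 0, 1]),
   ([0, 1, 8, 8, 8, 5, 8, 6, 5], [6, 2, 5, 2, 3, 5, 0, 0, 1]),
   ([5, 4, 4, 5, 1, 7, 8, 0, 7], [5, 8, 2, 5, 2, 1, 0, 0, 1]),
   ([4, 3, 1, 6, 1, 3, 1, 3, 8], [8, 5, 4, 6, 0, 4, 0, 0, 1]),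
   ([5, 2, 5, 6, 8, 3, 8, 2, 0], [3, 7, 5, 6, 8, 6, 0, 0, 1]),
   ([2, 1, 2, 3, 5, 4, 6, 5, 6], [4, 8, 4, 3, 8, 0, 0, 0, 1]),
   ([1, 0, 5, 6, 5, 3, 1, 7, 7], [5, 7, 8, 4, 0, 1, 0, 0, 1]),
   ([6, 3, 0, 2, 7, 5, 1, 8, 6], [1, 2, 8, 3, 1, 0, 0, 0, 1]),
   ([1, 1, 8, 4, 6, 4, 3, 4, 3], [6, 0, 0, 8, 7, 1, 0, 0, 1]),
   ([5, 3, 1, 1, 1, 2, 0, 2, 7], [0, 2, 1, 1, 2, 2, 0, 0, 1]),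
   ([1, 4, 1, 2, 0, 4, 2, 6, 0], [1, 0, 1, 7, 7, 5, 0, 0, 1]),
   ([3, 0, 5, 7, 2, 7, 1, 6, 8], [1, 4, 8, 8, 5, 1, 0, 0, 1]),
   ([5, 3, 3, 1, 1, 6, 0, 7, 7], [1, 2, 4, 5, 3, 7, 0, 0, 1]),
   ([4, 8, 4, 4, 0, 5, 8, 4, 6], [8, 1, 8, 6, 1, 6, 0, 0, 1]),
   ([0, 3, 7, 7, 0, 0, 6, 4, 1], [8, 0, 6, 7, 3, 3, 0, 0, 1]),
   ([1, 8, 3, 6, 7, 0, 2, 0, 5], [6, 3, 2, 0, 3, 5, 0, 0, 1]),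
   ([2, 4, 7, 0, 5, 5, 8, 8, 6], [6, 2, 4, 5, 5, 7, 0, 0, 1]),
   ([4, 7, 5, 7, 2, 2, 5, 6, 7], [0, 8, 4, 1, 0, 0, 0, 0, 1]),
   ([6, 4, 0, 0, 7, 1, 8, 3, 6], [4, 7, 6, 7, 0, 4, 0, 0, 1]),
   ([0, 7, 7, 4, 7, 4, 4, 2, 3], [2, 3, 0, 1, 3, 3, 0, 0, 1]),
   ([2, 0, 3, 2, 7, 6, 5, 1, 4], [4, 6, 2, 3, 1, 8, 0, 0, 1]),
   ([4, 2, 5, 0, 2, 6, 7, 2, 7], [7, 0, 6, 1, 4, 3, 0, 0, 1]),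
   ([5, 5, 4, 2, 2, 3, 6, 0, 6], [6, 3, 3, 4, 2, 4, 0, 0, 1]),
   ([8, 5, 4, 4, 2, 6, 8, 5, 3], [5, 8, 1, 8, 4, 1, 0, 0, 1]),
   ([0, 5, 1, 8, 8, 2, 6, 6, 5], [0, 3, 5, 6, 3, 7, 0, 0, 1]),
   ([4, 1, 3, 7, 0, 5, 2, 3, 6], [3, 8, 5, 7, 0, 6, 0, 0, 1]),
   ([1, 7, 3, 8, 1, 8, 0, 1, 2], [0, 4, 3, 1, 7, 8, 0, 0, 1]),
   ([7, 8, 2, 0, 4, 6, 1, 3, 2], [6, 1, 6, 5, 2, 4, 0, 0, 1]),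
   ([4, 6, 4, 7, 6, 2, 4, 7, 0], [5, 5, 0, 5, 1, 6, 0, 0, 1]),
   ([0, 2, 6, 4, 7, 8, 0, 7, 3], [4, 3, 2, 1, 0, 6, 0, 0, 1]),
   ([4, 0, 1, 4, 5, 7, 3, 2, 4], [7, 1, 6, 5, 7, 5, 0, 0, 1]),
   ([1, 6, 8, 5, 2, 8, 6, 3, 1], [6, 5, 5, 0, 5, 2, 0, 0, 1]),
   ([6, 8, 1, 8, 6, 8, 8, 1, 7], [8, 4, 2, 1, 5, 0, 0, 0, 1]),
   ([5, 7, 3, 4, 2, 4, 5, 6, 6], [4, 4, 7, 2, 0, 1, 0, 0, 1]),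
   ([0, 1, 7, 8, 2, 7, 3, 8, 2], [5, 0, 1, 3, 4, 4, 0, 0, 1]),
   ([5, 8, 4, 3, 4, 3, 6, 5, 4], [7, 1, 1, 4, 4, 4, 0, 0, 1]),
   ([0, 5, 8, 8, 8, 6, 5, 2, 5], [8, 2, 3, 4, 0, 0, 0, 0, 1]),
   ([5, 8, 3, 3, 8, 7, 2, 1, 0], [5, 1, 4, 0, 7, 0, 0, 0, 1]),
   ([2, 8, 2, 6, 0, 4, 0, 5, 2], [6, 8, 6, 3, 8, 5, 0, 0, 1]),
   ([1, 0, 4, 6, 4, 6, 4, 5, 8], [0, 6, 5, 2, 5, 6, 0, 0, 1]),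
   ([1, 6, 6, 8, 1, 8, 3, 1, 2], [4, 6, 5, 5, 8, 7, 0, 0, 1]),
   ([4, 7, 3, 2, 8, 3, 0, 6, 1], [8, 0, 5, 7, 4, 1, 0, 0, 1]),
   ([5, 3, 4, 3, 1, 1, 2, 4, 7], [1, 8, 0, 2, 3, 6, 0, 0, 1]),
   ([8, 7, 2, 7, 8, 8, 0, 1, 6], [8, 8, 4, 5, 6, 2, 0, 0, 1]),
   ([1, 5, 7, 5, 1, 0, 8, 3, 2], [1, 6, 0, 3, 3, 6, 0, 0, 1]),
   ([3, 6, 4, 5, 0, 6, 3, 4, 7], [6, 3, 4, 2, 4, 6, 0, 0, 1]),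
   ([4, 1, 0, 4, 2, 6, 0, 2, 7], [5, 8, 0, 8, 3, 0, 0, 0, 1]),
   ([4, 0, 6, 6, 3, 6, 3, 7, 3], [4, 5, 0, 8, 0, 6, 0, 0, 1]),
   ([4, 4, 3, 0, 1, 6, 4, 2, 8], [8, 0, 8, 2, 7, 5, 0, 0, 1]),
   ([0, 3, 1, 3, 5, 6, 6, 3, 8], [0, 5, 4, 1, 3, 7, 0, 0, 1]),
   ([4, 5, 0, 0, 8, 4, 8, 8, 1], [8, 3, 7, 3, 0, 4, 0, 0, 1]),
   ([6, 1, 8, 1, 0, 1, 8, 5, 4], [3, 0, 4, 7, 8, 6, 0, 0, 1]),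
   ([7, 6, 3, 3, 6, 1, 6, 2, 6], [0, 2, 4, 1, 4, 7, 0, 0, 1]),
   ([0, 5, 8, 1, 5, 7, 4, 8, 8], [8, 2, 3, 1, 4, 7, 0, 0, 1]),
   ([2, 3, 3, 6, 8, 0, 4, 0, 3], [4, 6, 4, 0, 7, 1, 0, 0, 1]),
   ([8, 6, 5, 6, 5, 6, 0, 4, 0], [2, 8, 4, 4, 4, 6, 0, 0, 1]),
   ([3, 6, 7, 6, 0, 4, 4, 8, 7], [7, 4, 5, 4, 1, 4, 0, 0, 1]),
   ([7, 5, 2, 0, 4, 5, 7, 1, 2], [4, 0, 8, 3, 2, 7, 0, 0, 1]),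
   ([7, 5, 1, 2, 7, 6, 8, 5, 8], [0, 8, 4, 1, 2, 6, 0, 0, 1]),
   ([5, 0, 4, 8, 7, 7, 2, 7, 1], [0, 8, 4, 1, 7, 6, 0, 0, 1]),
   ([0, 2, 4, 8, 2, 4, 0, 7, 2], [3, 4, 3, 6, 5, 5, 0, 0, 1]),
   ([8, 1, 4, 3, 4, 8, 8, 5, 1], [0, 3, 7, 2, 8, 5, 0, 0, 1]),
   ([3, 1, 5, 0, 3, 8, 1, 2, 4], [4, 4, 0, 6, 5, 0, 0, 0, 1]),
   ([2, 0, 3, 8, 8, 0, 1, 8, 3], [4, 8, 1, 2, 8, 5, 0, 0, 1]),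
   ([8, 2, 3, 6, 1, 2, 1, 8, 4], [7, 4, 1, 8, 4, 5, 0, 0, 1]),
   ([8, 4, 8, 1, 4, 2, 6, 1, 1], [5, 4, 7, 0, 7, 1, 0, 0, 1]),
   ([8, 1, 4, 6, 6, 3, 3, 0, 8], [8, 3, 4, 6, 8, 7, 0, 0, 1]),
   ([0, 4, 4, 8, 1, 0, 4, 1, 0], [0, 4, 0, 1, 5, 0, 0, 0, 1]),
   ([0, 8, 1, 8, 1, 6, 6, 6, 0], [4, 4, 8, 2, 8, 5, 0, 0, 1]),
   ([4, 5, 1, 7, 0, 2, 2, 1, 6], [3, 0, 7, 3, 8, 5, 0, 0, 1]),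
   ([3, 5, 3, 4, 3, 7, 8, 6, 4], [0, 1, 0, 6, 8, 2, 0, 0, 1]),
   ([3, 5, 1, 3, 2, 1, 0, 5, 8], [8, 3, 3, 8, 7, 5, 0, 0, 1]),
   ([6, 7, 8, 7, 5, 0, 2, 6, 2], [0, 2, 8, 1, 6, 7, 0, 0, 1]),
   ([7, 3, 7, 2, 5, 2, 7, 1, 1], [7, 8, 6, 5, 2, 7, 0, 0, 1]),
   ([6, 4, 4, 0, 4, 6, 4, 2, 0], [3, 0, 3, 4, 8, 0, 0, 0, 1]),
   ([1, 3, 2, 5, 8, 4, 3, 5, 4], [5, 6, 5, 7, 5, 3, 0, 0, 1]),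
   ([3, 7, 1, 2, 2, 3, 5, 6, 8], [4, 7, 8, 2, 4, 0, 0, 0, 1]),
   ([8, 0, 4, 8, 2, 5, 2, 2, 3], [8, 4, 6, 1, 6, 6, 0, 0, 1]),
   ([8, 3, 1, 5, 0, 5, 6, 6, 5], [7, 6, 6, 3, 5, 5, 0, 0, 1])]

/-- Witnesses for the quadratic with determinant an odd power: entry `c₁`. -/
def tabOdd : List (List Nat × List Nat) :=
  [([7, 7, 8, 4], [5, 6, 1, 2]),
   ([0, 0, 0, 0], [0, 0, 0, 0]),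
   ([5, 4, 2, 6], [3, 7, 0, 5]),
   ([0, 6, 1, 2], [6, 4, 1, 4]),
   ([3, 4, 4, 8], [1, 6, 0, 1]),
   ([6, 8, 1, 5], [5, 8, 0, 3]),
   ([5, 6, 3, 6], [8, 5, 0, 4]),
   ([1, 2, 5, 1], [3, 5, 0, 5]),
   ([0, 7, 4, 2], [5, 7, 0, 3])]

/-- Witnesses for the quadratic with determinant one: entry `c₁`. -/
def tabEven : List (List Nat × List Nat) :=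
  [([1, 2, 5, 8], [2, 2, 1, 0]),
   ([0, 0, 0, 0], [0, 0, 0, 0]),
   ([5, 8, 3, 4], [1, 0, 1, 1]),
   ([1, 3, 4, 8], [3, 5, 1, 1]),
   ([0, 1, 2, 6], [3, 6, 0, 5]),
   ([3, 6, 2, 3], [5, 8, 0, 3]),
   ([8, 1, 7, 1], [1, 4, 0, 1]),
   ([2, 7, 5, 7], [8, 6, 0, 4]),
   ([0, 6, 5, 6], [5, 7, 0, 3])]

end CfsgLib.OreSU.Nine
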